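import Cfsg.Agent.SporB.Ru.Data.G0Cls
import Cfsg.Agent.SporB.Ru.Data.G0

/-!
Checks of suborbit labels.
-/

set_option autoImplicit false
set_option maxRecDepth 100000

namespace Cfsg.Agent.SporB.Ru

open Cfsg.Agent.CosetEnum

theorem g0_cls_0 : allRange (g0Cls.check g0) 0 1024 = true := by decide +kernel

theorem g0_cls_1024 : allRange (g0Cls.check g0) 1024 1024 = true := by decide +kernel

theorem g0_cls_2048 : allRange (g0Cls.check g0) 2048 1024 = true := by decide +kernel

theorem g0_cls_3072 : allRange (g0Cls.check g0) 3072 988 = true := by decide +kernel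

theorem g0_cls : ∀ i, i < 4060 → (g0Cls.check g0) i = true := by
  intro i hi
  rcases Nat.lt_or_ge i 1024 with h | h
  · exact allRange_spec g0_cls_0 i (by omega) (by omega)
  rcases Nat.lt_or_ge i 2048 with h | h
  · exact allRange_spec g0_cls_1024 i (by omega) (by omega)
  rcases Nat.lt_or_ge i 3072 with h | h
  · exact allRange_spec g0_cls_2048 i (by omega) (by omega)
  exact allRange_spec g0_cls_3072 i (by omega) (by omega)

theorem g0_sizes : ∀ c, c < 3 → g0Cls.checkSize g0 c = true := by decide +kernel

theorem g0_noBlock : g0Cls.noBlock 4060 0 := by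
  unfold Classes.noBlock
  decide +kernel

theorem g0_lab0 : g0Cls.lab 0 = 0 := by decide +kernel

end Cfsg.Agent.SporB.Ru
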