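import Cfsg.Agent.SporB.Ru.Data.G0

/-!
Checks of one level.
-/

set_option autoImplicit false
set_option maxRecDepth 100000

namespace Cfsg.Agent.SporB.Ru

open Cfsg.Agent.CosetEnum

theorem g0_orb_0 : allRange (g0.checkOrbit) 0 512 = true := by decide +kernel

theorem g0_orb_512 : allRange (g0.checkOrbit) 512 512 = true := by decide +kernel

theorem g0_orb_1024 : allRange (g0.checkOrbit) 1024 512 = true := by decide +kernel

theorem g0_orb_1536 : allRange (g0.checkOrbit) 1536 512 = true := by decide +kernel

theorem g0_orb_2048 : allRange (g0.checkOrbit) 2048 512 = true := by decide +kernel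

theorem g0_orb_2560 : allRange (g0.checkOrbit) 2560 512 = true := by decide +kernel

theorem g0_orb_3072 : allRange (g0.checkOrbit) 3072 512 = true := by decide +kernel

theorem g0_orb_3584 : allRange (g0.checkOrbit) 3584 476 = true := by decide +kernel

theorem g0_orb : ∀ i, i < 4060 → (g0.checkOrbit) i = true := by
  intro i hi
  rcases Nat.lt_or_ge i 512 with h | h
  · exact allRange_spec g0_orb_0 i (by omega) (by omega)
  rcases Nat.lt_or_ge i 1024 with h | h
  · exact allRange_spec g0_orb_512 i (by omega) (by omega)
  rcases Nat.lt_or_ge i 1536 with h | h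
  · exact allRange_spec g0_orb_1024 i (by omega) (by omega)
  rcases Nat.lt_or_ge i 2048 with h | h
  · exact allRange_spec g0_orb_1536 i (by omega) (by omega)
  rcases Nat.lt_or_ge i 2560 with h | h
  · exact allRange_spec g0_orb_2048 i (by omega) (by omega)
  rcases Nat.lt_or_ge i 3072 with h | h
  · exact allRange_spec g0_orb_2560 i (by omega) (by omega)
  rcases Nat.lt_or_ge i 3584 with h | h
  · exact allRange_spec g0_orb_3072 i (by omega) (by omega)
  exact allRange_spec g0_orb_3584 i (by omega) (by omega)

theorem g0_head : g0.checkHead 0 = true := by decide +kernel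

end Cfsg.Agent.SporB.Ru
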