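import Cfsg.Agent.SporB.Ru.Data.G0

/-!
Closure checks of one level.
-/

set_option autoImplicit false
set_option maxRecDepth 100000

namespace Cfsg.Agent.SporB.Ru

open Cfsg.Agent.CosetEnum

theorem g0_tr_960 : allRange (g0.checkTrans) 960 192 = true := by decide +kernel

theorem g0_tr_1152 : allRange (g0.checkTrans) 1152 192 = true := by decide +kernel

theorem g0_tr_1344 : allRange (g0.checkTrans) 1344 192 = true := by decide +kernel

theorem g0_tr_1536 : allRange (g0.checkTrans) 1536 192 = true := by decide +kernel

theorem g0_tr_1728 : allRange (g0.checkTrans) 1728 192 = true := by decide +kernel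

end Cfsg.Agent.SporB.Ru
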