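import Cfsg.Agent.SporB.Ru.Data.G0

/-!
Closure checks of one level.
-/

set_option autoImplicit false
set_option maxRecDepth 100000

namespace Cfsg.Agent.SporB.Ru

open Cfsg.Agent.CosetEnum

theorem g0_tr_1920 : allRange (g0.checkTrans) 1920 192 = true := by decide +kernel

theorem g0_tr_2112 : allRange (g0.checkTrans) 2112 192 = true := by decide +kernel

theorem g0_tr_2304 : allRange (g0.checkTrans) 2304 192 = true := by decide +kernel

theorem g0_tr_2496 : allRange (g0.checkTrans) 2496 192 = true := by decide +kernel

theorem g0_tr_2688 : allRange (g0.checkTrans) 2688 192 = true := by decide +kernel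

end Cfsg.Agent.SporB.Ru
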