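import Cfsg.Agent.SporB.Ru.Data.G0

/-!
Closure checks of one level.
-/

set_option autoImplicit false
set_option maxRecDepth 100000

namespace Cfsg.Agent.SporB.Ru

open Cfsg.Agent.CosetEnum

theorem g0_tr_3840 : allRange (g0.checkTrans) 3840 192 = true := by decide +kernel

theorem g0_tr_4032 : allRange (g0.checkTrans) 4032 28 = true := by decide +kernel

end Cfsg.Agent.SporB.Ru
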