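import Cfsg.Agent.SporB.Ru.Cert.G0Trans0
import Cfsg.Agent.SporB.Ru.Cert.G0Trans1
import Cfsg.Agent.SporB.Ru.Cert.G0Trans2
import Cfsg.Agent.SporB.Ru.Cert.G0Trans3
import Cfsg.Agent.SporB.Ru.Cert.G0Trans4

/-!
All closure checks of one level.
-/

set_option autoImplicit false
set_option maxRecDepth 100000

namespace Cfsg.Agent.SporB.Ru

open Cfsg.Agent.CosetEnum

theorem g0_tr : ∀ i, i < 4060 → (g0.checkTrans) i = true := by
  intro i hi
  rcases Nat.lt_or_ge i 192 with h | h
  · exact allRange_spec g0_tr_0 i (by omega) (by omega)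
  rcases Nat.lt_or_ge i 384 with h | h
  · exact allRange_spec g0_tr_192 i (by omega) (by omega)
  rcases Nat.lt_or_ge i 576 with h | h
  · exact allRange_spec g0_tr_384 i (by omega) (by omega)
  rcases Nat.lt_or_ge i 768 with h | h
  · exact allRange_spec g0_tr_576 i (by omega) (by omega)
  rcases Nat.lt_or_ge i 960 with h | h
  · exact allRange_spec g0_tr_768 i (by omega) (by omega)
  rcases Nat.lt_or_ge i 1152 with h | h
  · exact allRange_spec g0_tr_960 i (by omega) (by omega)
  rcases Nat.lt_or_ge i 1344 with h | h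
  · exact allRange_spec g0_tr_1152 i (by omega) (by omega)
  rcases Nat.lt_or_ge i 1536 with h | h
  · exact allRange_spec g0_tr_1344 i (by omega) (by omega)
  rcases Nat.lt_or_ge i 1728 with h | h
  · exact allRange_spec g0_tr_1536 i (by omega) (by omega)
  rcases Nat.lt_or_ge i 1920 with h | h
  · exact allRange_spec g0_tr_1728 i (by omega) (by omega)
  rcases Nat.lt_or_ge i 2112 with h | h
  · exact allRange_spec g0_tr_1920 i (by omega) (by omega)
  rcases Nat.lt_or_ge i 2304 with h | h
  · exact allRange_spec g0_tr_2112 i (by omega) (by omega)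
  rcases Nat.lt_or_ge i 2496 with h | h
  · exact allRange_spec g0_tr_2304 i (by omega) (by omega)
  rcases Nat.lt_or_ge i 2688 with h | h
  · exact allRange_spec g0_tr_2496 i (by omega) (by omega)
  rcases Nat.lt_or_ge i 2880 with h | h
  · exact allRange_spec g0_tr_2688 i (by omega) (by omega)
  rcases Nat.lt_or_ge i 3072 with h | h
  · exact allRange_spec g0_tr_2880 i (by omega) (by omega)
  rcases Nat.lt_or_ge i 3264 with h | h
  · exact allRange_spec g0_tr_3072 i (by omega) (by omega)
  rcases Nat.lt_or_ge i 3456 with h | h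
  · exact allRange_spec g0_tr_3264 i (by omega) (by omega)
  rcases Nat.lt_or_ge i 3648 with h | h
  · exact allRange_spec g0_tr_3456 i (by omega) (by omega)
  rcases Nat.lt_or_ge i 3840 with h | h
  · exact allRange_spec g0_tr_3648 i (by omega) (by omega)
  rcases Nat.lt_or_ge i 4032 with h | h
  · exact allRange_spec g0_tr_3840 i (by omega) (by omega)
  exact allRange_spec g0_tr_4032 i (by omega) (by omega)

end Cfsg.Agent.SporB.Ru
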