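import Cfsg.Agent.SporB.Ru.Cert.G2Trans0

/-!
All closure checks of one level.
-/

set_option autoImplicit false
set_option maxRecDepth 100000

namespace Cfsg.Agent.SporB.Ru

open Cfsg.Agent.CosetEnum

theorem g2_tr : ∀ i, i < 640 → (g2.checkTrans) i = true := by
  intro i hi
  rcases Nat.lt_or_ge i 192 with h | h
  · exact allRange_spec g2_tr_0 i (by omega) (by omega)
  rcases Nat.lt_or_ge i 384 with h | h
  · exact allRange_spec g2_tr_192 i (by omega) (by omega)
  rcases Nat.lt_or_ge i 576 with h | h
  · exact allRange_spec g2_tr_384 i (by omega) (by omega)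
  exact allRange_spec g2_tr_576 i (by omega) (by omega)

end Cfsg.Agent.SporB.Ru
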