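import Cfsg.Agent.SporB.Ru.Cert.G3Trans0

/-!
All closure checks of one level.
-/

set_option autoImplicit false
set_option maxRecDepth 100000

namespace Cfsg.Agent.SporB.Ru

open Cfsg.Agent.CosetEnum

theorem g3_tr : ∀ i, i < 32 → (g3.checkTrans) i = true := by
  intro i hi
  exact allRange_spec g3_tr_0 i (by omega) (by omega)

end Cfsg.Agent.SporB.Ru
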