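import Cfsg.Agent.SporB.Ru.Graph
import Cfsg.Agent.SporB.Ru.Data.Nets
import Cfsg.Agent.SporB.Ru.Data.Adj

/-!
The network and the invariance of adjacency.
-/

set_option autoImplicit false
set_option maxRecDepth 100000

namespace Cfsg.Agent.SporB.Ru

open Cfsg.Agent.CosetEnum

theorem net0_ok_0 : allRange (netOK net0 0) 0 24 = true := by decide +kernel

theorem net0_ok_24 : allRange (netOK net0 0) 24 24 = true := by decide +kernel

theorem net0_ok_48 : allRange (netOK net0 0) 48 24 = true := by decide +kernel

theorem net0_ok_72 : allRange (netOK net0 0) 72 24 = true := by decide +kernel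

theorem net0_ok_96 : allRange (netOK net0 0) 96 24 = true := by decide +kernel

theorem net0_ok_120 : allRange (netOK net0 0) 120 24 = true := by decide +kernel

theorem net0_ok_144 : allRange (netOK net0 0) 144 24 = true := by decide +kernel

theorem net0_ok_168 : allRange (netOK net0 0) 168 24 = true := by decide +kernel

theorem net0_ok_192 : allRange (netOK net0 0) 192 24 = true := by decide +kernel

theorem net0_ok_216 : allRange (netOK net0 0) 216 24 = true := by decide +kernel

theorem net0_ok_240 : allRange (netOK net0 0) 240 24 = true := by decide +kernel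

theorem net0_ok_264 : allRange (netOK net0 0) 264 24 = true := by decide +kernel

theorem net0_ok_288 : allRange (netOK net0 0) 288 24 = true := by decide +kernel

theorem net0_ok_312 : allRange (netOK net0 0) 312 24 = true := by decide +kernel

theorem net0_ok_336 : allRange (netOK net0 0) 336 24 = true := by decide +kernel

theorem net0_ok_360 : allRange (netOK net0 0) 360 24 = true := by decide +kernel

theorem net0_ok_384 : allRange (netOK net0 0) 384 24 = true := by decide +kernel

theorem net0_ok_408 : allRange (netOK net0 0) 408 24 = true := by decide +kernel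

theorem net0_ok_432 : allRange (netOK net0 0) 432 24 = true := by decide +kernel

theorem net0_ok_456 : allRange (netOK net0 0) 456 24 = true := by decide +kernel

theorem net0_ok_480 : allRange (netOK net0 0) 480 24 = true := by decide +kernel

theorem net0_ok_504 : allRange (netOK net0 0) 504 24 = true := by decide +kernel

theorem net0_ok_528 : allRange (netOK net0 0) 528 24 = true := by decide +kernel

theorem net0_ok_552 : allRange (netOK net0 0) 552 24 = true := by decide +kernel

theorem net0_ok_576 : allRange (netOK net0 0) 576 24 = true := by decide +kernel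

theorem net0_ok_600 : allRange (netOK net0 0) 600 24 = true := by decide +kernel

theorem net0_ok_624 : allRange (netOK net0 0) 624 24 = true := by decide +kernel

theorem net0_ok_648 : allRange (netOK net0 0) 648 24 = true := by decide +kernel

theorem net0_ok_672 : allRange (netOK net0 0) 672 24 = true := by decide +kernel

theorem net0_ok_696 : allRange (netOK net0 0) 696 24 = true := by decide +kernel

theorem net0_ok_720 : allRange (netOK net0 0) 720 24 = true := by decide +kernel

theorem net0_ok_744 : allRange (netOK net0 0) 744 24 = true := by decide +kernel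

theorem net0_ok_768 : allRange (netOK net0 0) 768 24 = true := by decide +kernel

theorem net0_ok_792 : allRange (netOK net0 0) 792 24 = true := by decide +kernel

theorem net0_ok_816 : allRange (netOK net0 0) 816 24 = true := by decide +kernel

theorem net0_ok_840 : allRange (netOK net0 0) 840 24 = true := by decide +kernel

theorem net0_ok_864 : allRange (netOK net0 0) 864 24 = true := by decide +kernel

theorem net0_ok_888 : allRange (netOK net0 0) 888 24 = true := by decide +kernel

theorem net0_ok_912 : allRange (netOK net0 0) 912 24 = true := by decide +kernel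

theorem net0_ok_936 : allRange (netOK net0 0) 936 24 = true := by decide +kernel

theorem net0_ok_960 : allRange (netOK net0 0) 960 24 = true := by decide +kernel

theorem net0_ok_984 : allRange (netOK net0 0) 984 24 = true := by decide +kernel

theorem net0_ok_1008 : allRange (netOK net0 0) 1008 24 = true := by decide +kernel

theorem net0_ok_1032 : allRange (netOK net0 0) 1032 24 = true := by decide +kernel

theorem net0_ok_1056 : allRange (netOK net0 0) 1056 24 = true := by decide +kernel

theorem net0_ok_1080 : allRange (netOK net0 0) 1080 24 = true := by decide +kernel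

theorem net0_ok_1104 : allRange (netOK net0 0) 1104 24 = true := by decide +kernel

theorem net0_ok_1128 : allRange (netOK net0 0) 1128 24 = true := by decide +kernel

theorem net0_ok_1152 : allRange (netOK net0 0) 1152 24 = true := by decide +kernel

theorem net0_ok_1176 : allRange (netOK net0 0) 1176 24 = true := by decide +kernel

theorem net0_ok_1200 : allRange (netOK net0 0) 1200 24 = true := by decide +kernel

theorem net0_ok_1224 : allRange (netOK net0 0) 1224 24 = true := by decide +kernel

theorem net0_ok_1248 : allRange (netOK net0 0) 1248 24 = true := by decide +kernel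

theorem net0_ok_1272 : allRange (netOK net0 0) 1272 24 = true := by decide +kernel

theorem net0_ok_1296 : allRange (netOK net0 0) 1296 24 = true := by decide +kernel

theorem net0_ok_1320 : allRange (netOK net0 0) 1320 24 = true := by decide +kernel

theorem net0_ok_1344 : allRange (netOK net0 0) 1344 24 = true := by decide +kernel

theorem net0_ok_1368 : allRange (netOK net0 0) 1368 24 = true := by decide +kernel

theorem net0_ok_1392 : allRange (netOK net0 0) 1392 24 = true := by decide +kernel

theorem net0_ok_1416 : allRange (netOK net0 0) 1416 24 = true := by decide +kernel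

theorem net0_ok_1440 : allRange (netOK net0 0) 1440 24 = true := by decide +kernel

theorem net0_ok_1464 : allRange (netOK net0 0) 1464 24 = true := by decide +kernel

theorem net0_ok_1488 : allRange (netOK net0 0) 1488 24 = true := by decide +kernel

theorem net0_ok_1512 : allRange (netOK net0 0) 1512 24 = true := by decide +kernel

theorem net0_ok_1536 : allRange (netOK net0 0) 1536 24 = true := by decide +kernel

theorem net0_ok_1560 : allRange (netOK net0 0) 1560 24 = true := by decide +kernel

theorem net0_ok_1584 : allRange (netOK net0 0) 1584 24 = true := by decide +kernel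

theorem net0_ok_1608 : allRange (netOK net0 0) 1608 24 = true := by decide +kernel

theorem net0_ok_1632 : allRange (netOK net0 0) 1632 24 = true := by decide +kernel

theorem net0_ok_1656 : allRange (netOK net0 0) 1656 24 = true := by decide +kernel

theorem net0_ok_1680 : allRange (netOK net0 0) 1680 24 = true := by decide +kernel

theorem net0_ok_1704 : allRange (netOK net0 0) 1704 24 = true := by decide +kernel

theorem net0_ok_1728 : allRange (netOK net0 0) 1728 24 = true := by decide +kernel

theorem net0_ok_1752 : allRange (netOK net0 0) 1752 24 = true := by decide +kernel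

theorem net0_ok_1776 : allRange (netOK net0 0) 1776 24 = true := by decide +kernel

theorem net0_ok_1800 : allRange (netOK net0 0) 1800 24 = true := by decide +kernel

theorem net0_ok_1824 : allRange (netOK net0 0) 1824 24 = true := by decide +kernel

theorem net0_ok_1848 : allRange (netOK net0 0) 1848 24 = true := by decide +kernel

theorem net0_ok_1872 : allRange (netOK net0 0) 1872 24 = true := by decide +kernel

theorem net0_ok_1896 : allRange (netOK net0 0) 1896 24 = true := by decide +kernel

theorem net0_ok_1920 : allRange (netOK net0 0) 1920 24 = true := by decide +kernel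

theorem net0_ok_1944 : allRange (netOK net0 0) 1944 24 = true := by decide +kernel

theorem net0_ok_1968 : allRange (netOK net0 0) 1968 24 = true := by decide +kernel

theorem net0_ok_1992 : allRange (netOK net0 0) 1992 24 = true := by decide +kernel

theorem net0_ok_2016 : allRange (netOK net0 0) 2016 24 = true := by decide +kernel

theorem net0_ok_2040 : allRange (netOK net0 0) 2040 24 = true := by decide +kernel

theorem net0_ok_2064 : allRange (netOK net0 0) 2064 24 = true := by decide +kernel

theorem net0_ok_2088 : allRange (netOK net0 0) 2088 24 = true := by decide +kernel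

theorem net0_ok_2112 : allRange (netOK net0 0) 2112 24 = true := by decide +kernel

theorem net0_ok_2136 : allRange (netOK net0 0) 2136 24 = true := by decide +kernel

theorem net0_ok_2160 : allRange (netOK net0 0) 2160 24 = true := by decide +kernel

theorem net0_ok_2184 : allRange (netOK net0 0) 2184 24 = true := by decide +kernel

theorem net0_ok_2208 : allRange (netOK net0 0) 2208 24 = true := by decide +kernel

theorem net0_ok_2232 : allRange (netOK net0 0) 2232 24 = true := by decide +kernel

theorem net0_ok_2256 : allRange (netOK net0 0) 2256 24 = true := by decide +kernel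

theorem net0_ok_2280 : allRange (netOK net0 0) 2280 24 = true := by decide +kernel

theorem net0_ok_2304 : allRange (netOK net0 0) 2304 24 = true := by decide +kernel

theorem net0_ok_2328 : allRange (netOK net0 0) 2328 24 = true := by decide +kernel

theorem net0_ok_2352 : allRange (netOK net0 0) 2352 24 = true := by decide +kernel

theorem net0_ok_2376 : allRange (netOK net0 0) 2376 24 = true := by decide +kernel

theorem net0_ok_2400 : allRange (netOK net0 0) 2400 24 = true := by decide +kernel

theorem net0_ok_2424 : allRange (netOK net0 0) 2424 24 = true := by decide +kernel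

theorem net0_ok_2448 : allRange (netOK net0 0) 2448 24 = true := by decide +kernel

theorem net0_ok_2472 : allRange (netOK net0 0) 2472 24 = true := by decide +kernel

theorem net0_ok_2496 : allRange (netOK net0 0) 2496 24 = true := by decide +kernel

theorem net0_ok_2520 : allRange (netOK net0 0) 2520 24 = true := by decide +kernel

theorem net0_ok_2544 : allRange (netOK net0 0) 2544 24 = true := by decide +kernel

theorem net0_ok_2568 : allRange (netOK net0 0) 2568 24 = true := by decide +kernel

theorem net0_ok_2592 : allRange (netOK net0 0) 2592 24 = true := by decide +kernel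

theorem net0_ok_2616 : allRange (netOK net0 0) 2616 24 = true := by decide +kernel

theorem net0_ok_2640 : allRange (netOK net0 0) 2640 24 = true := by decide +kernel

theorem net0_ok_2664 : allRange (netOK net0 0) 2664 24 = true := by decide +kernel

theorem net0_ok_2688 : allRange (netOK net0 0) 2688 24 = true := by decide +kernel

theorem net0_ok_2712 : allRange (netOK net0 0) 2712 24 = true := by decide +kernel

theorem net0_ok_2736 : allRange (netOK net0 0) 2736 24 = true := by decide +kernel

theorem net0_ok_2760 : allRange (netOK net0 0) 2760 24 = true := by decide +kernel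

theorem net0_ok_2784 : allRange (netOK net0 0) 2784 24 = true := by decide +kernel

theorem net0_ok_2808 : allRange (netOK net0 0) 2808 24 = true := by decide +kernel

theorem net0_ok_2832 : allRange (netOK net0 0) 2832 24 = true := by decide +kernel

theorem net0_ok_2856 : allRange (netOK net0 0) 2856 24 = true := by decide +kernel

theorem net0_ok_2880 : allRange (netOK net0 0) 2880 24 = true := by decide +kernel

theorem net0_ok_2904 : allRange (netOK net0 0) 2904 24 = true := by decide +kernel

theorem net0_ok_2928 : allRange (netOK net0 0) 2928 24 = true := by decide +kernel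

theorem net0_ok_2952 : allRange (netOK net0 0) 2952 24 = true := by decide +kernel

theorem net0_ok_2976 : allRange (netOK net0 0) 2976 24 = true := by decide +kernel

theorem net0_ok_3000 : allRange (netOK net0 0) 3000 24 = true := by decide +kernel

theorem net0_ok_3024 : allRange (netOK net0 0) 3024 24 = true := by decide +kernel

theorem net0_ok_3048 : allRange (netOK net0 0) 3048 24 = true := by decide +kernel

theorem net0_ok_3072 : allRange (netOK net0 0) 3072 24 = true := by decide +kernel

theorem net0_ok_3096 : allRange (netOK net0 0) 3096 24 = true := by decide +kernel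

theorem net0_ok_3120 : allRange (netOK net0 0) 3120 24 = true := by decide +kernel

theorem net0_ok_3144 : allRange (netOK net0 0) 3144 24 = true := by decide +kernel

theorem net0_ok_3168 : allRange (netOK net0 0) 3168 24 = true := by decide +kernel

theorem net0_ok_3192 : allRange (netOK net0 0) 3192 24 = true := by decide +kernel

theorem net0_ok_3216 : allRange (netOK net0 0) 3216 24 = true := by decide +kernel

theorem net0_ok_3240 : allRange (netOK net0 0) 3240 24 = true := by decide +kernel

theorem net0_ok_3264 : allRange (netOK net0 0) 3264 24 = true := by decide +kernel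

theorem net0_ok_3288 : allRange (netOK net0 0) 3288 24 = true := by decide +kernel

theorem net0_ok_3312 : allRange (netOK net0 0) 3312 24 = true := by decide +kernel

theorem net0_ok_3336 : allRange (netOK net0 0) 3336 24 = true := by decide +kernel

theorem net0_ok_3360 : allRange (netOK net0 0) 3360 24 = true := by decide +kernel

theorem net0_ok_3384 : allRange (netOK net0 0) 3384 24 = true := by decide +kernel

theorem net0_ok_3408 : allRange (netOK net0 0) 3408 24 = true := by decide +kernel

theorem net0_ok_3432 : allRange (netOK net0 0) 3432 24 = true := by decide +kernel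

theorem net0_ok_3456 : allRange (netOK net0 0) 3456 24 = true := by decide +kernel

theorem net0_ok_3480 : allRange (netOK net0 0) 3480 24 = true := by decide +kernel

theorem net0_ok_3504 : allRange (netOK net0 0) 3504 24 = true := by decide +kernel

theorem net0_ok_3528 : allRange (netOK net0 0) 3528 24 = true := by decide +kernel

theorem net0_ok_3552 : allRange (netOK net0 0) 3552 24 = true := by decide +kernel

theorem net0_ok_3576 : allRange (netOK net0 0) 3576 24 = true := by decide +kernel

theorem net0_ok_3600 : allRange (netOK net0 0) 3600 24 = true := by decide +kernel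

theorem net0_ok_3624 : allRange (netOK net0 0) 3624 24 = true := by decide +kernel

theorem net0_ok_3648 : allRange (netOK net0 0) 3648 24 = true := by decide +kernel

theorem net0_ok_3672 : allRange (netOK net0 0) 3672 24 = true := by decide +kernel

theorem net0_ok_3696 : allRange (netOK net0 0) 3696 24 = true := by decide +kernel

theorem net0_ok_3720 : allRange (netOK net0 0) 3720 24 = true := by decide +kernel

theorem net0_ok_3744 : allRange (netOK net0 0) 3744 24 = true := by decide +kernel

theorem net0_ok_3768 : allRange (netOK net0 0) 3768 24 = true := by decide +kernel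

theorem net0_ok_3792 : allRange (netOK net0 0) 3792 24 = true := by decide +kernel

theorem net0_ok_3816 : allRange (netOK net0 0) 3816 24 = true := by decide +kernel

theorem net0_ok_3840 : allRange (netOK net0 0) 3840 24 = true := by decide +kernel

theorem net0_ok_3864 : allRange (netOK net0 0) 3864 24 = true := by decide +kernel

theorem net0_ok_3888 : allRange (netOK net0 0) 3888 24 = true := by decide +kernel

theorem net0_ok_3912 : allRange (netOK net0 0) 3912 24 = true := by decide +kernel

theorem net0_ok_3936 : allRange (netOK net0 0) 3936 24 = true := by decide +kernel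

theorem net0_ok_3960 : allRange (netOK net0 0) 3960 24 = true := by decide +kernel

theorem net0_ok_3984 : allRange (netOK net0 0) 3984 24 = true := by decide +kernel

theorem net0_ok_4008 : allRange (netOK net0 0) 4008 24 = true := by decide +kernel

theorem net0_ok_4032 : allRange (netOK net0 0) 4032 24 = true := by decide +kernel

theorem net0_ok_4056 : allRange (netOK net0 0) 4056 4 = true := by decide +kernel

theorem net0_ok : ∀ i, i < 4060 → (netOK net0 0) i = true := by
  intro i hi
  rcases Nat.lt_or_ge i 24 with h | h
  · exact allRange_spec net0_ok_0 i (by omega) (by omega)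
  rcases Nat.lt_or_ge i 48 with h | h
  · exact allRange_spec net0_ok_24 i (by omega) (by omega)
  rcases Nat.lt_or_ge i 72 with h | h
  · exact allRange_spec net0_ok_48 i (by omega) (by omega)
  rcases Nat.lt_or_ge i 96 with h | h
  · exact allRange_spec net0_ok_72 i (by omega) (by omega)
  rcases Nat.lt_or_ge i 120 with h | h
  · exact allRange_spec net0_ok_96 i (by omega) (by omega)
  rcases Nat.lt_or_ge i 144 with h | h
  · exact allRange_spec net0_ok_120 i (by omega) (by omega)
  rcases Nat.lt_or_ge i 168 with h | h
  · exact allRange_spec net0_ok_144 i (by omega) (by omega)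
  rcases Nat.lt_or_ge i 192 with h | h
  · exact allRange_spec net0_ok_168 i (by omega) (by omega)
  rcases Nat.lt_or_ge i 216 with h | h
  · exact allRange_spec net0_ok_192 i (by omega) (by omega)
  rcases Nat.lt_or_ge i 240 with h | h
  · exact allRange_spec net0_ok_216 i (by omega) (by omega)
  rcases Nat.lt_or_ge i 264 with h | h
  · exact allRange_spec net0_ok_240 i (by omega) (by omega)
  rcases Nat.lt_or_ge i 288 with h | h
  · exact allRange_spec net0_ok_264 i (by omega) (by omega)
  rcases Nat.lt_or_ge i 312 with h | h
  · exact allRange_spec net0_ok_288 i (by omega) (by omega)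
  rcases Nat.lt_or_ge i 336 with h | h
  · exact allRange_spec net0_ok_312 i (by omega) (by omega)
  rcases Nat.lt_or_ge i 360 with h | h
  · exact allRange_spec net0_ok_336 i (by omega) (by omega)
  rcases Nat.lt_or_ge i 384 with h | h
  · exact allRange_spec net0_ok_360 i (by omega) (by omega)
  rcases Nat.lt_or_ge i 408 with h | h
  · exact allRange_spec net0_ok_384 i (by omega) (by omega)
  rcases Nat.lt_or_ge i 432 with h | h
  · exact allRange_spec net0_ok_408 i (by omega) (by omega)
  rcases Nat.lt_or_ge i 456 with h | h
  · exact allRange_spec net0_ok_432 i (by omega) (by omega)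
  rcases Nat.lt_or_ge i 480 with h | h
  · exact allRange_spec net0_ok_456 i (by omega) (by omega)
  rcases Nat.lt_or_ge i 504 with h | h
  · exact allRange_spec net0_ok_480 i (by omega) (by omega)
  rcases Nat.lt_or_ge i 528 with h | h
  · exact allRange_spec net0_ok_504 i (by omega) (by omega)
  rcases Nat.lt_or_ge i 552 with h | h
  · exact allRange_spec net0_ok_528 i (by omega) (by omega)
  rcases Nat.lt_or_ge i 576 with h | h
  · exact allRange_spec net0_ok_552 i (by omega) (by omega)
  rcases Nat.lt_or_ge i 600 with h | h
  · exact allRange_spec net0_ok_576 i (by omega) (by omega)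
  rcases Nat.lt_or_ge i 624 with h | h
  · exact allRange_spec net0_ok_600 i (by omega) (by omega)
  rcases Nat.lt_or_ge i 648 with h | h
  · exact allRange_spec net0_ok_624 i (by omega) (by omega)
  rcases Nat.lt_or_ge i 672 with h | h
  · exact allRange_spec net0_ok_648 i (by omega) (by omega)
  rcases Nat.lt_or_ge i 696 with h | h
  · exact allRange_spec net0_ok_672 i (by omega) (by omega)
  rcases Nat.lt_or_ge i 720 with h | h
  · exact allRange_spec net0_ok_696 i (by omega) (by omega)
  rcases Nat.lt_or_ge i 744 with h | h
  · exact allRange_spec net0_ok_720 i (by omega) (by omega)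
  rcases Nat.lt_or_ge i 768 with h | h
  · exact allRange_spec net0_ok_744 i (by omega) (by omega)
  rcases Nat.lt_or_ge i 792 with h | h
  · exact allRange_spec net0_ok_768 i (by omega) (by omega)
  rcases Nat.lt_or_ge i 816 with h | h
  · exact allRange_spec net0_ok_792 i (by omega) (by omega)
  rcases Nat.lt_or_ge i 840 with h | h
  · exact allRange_spec net0_ok_816 i (by omega) (by omega)
  rcases Nat.lt_or_ge i 864 with h | h
  · exact allRange_spec net0_ok_840 i (by omega) (by omega)
  rcases Nat.lt_or_ge i 888 with h | h
  · exact allRange_spec net0_ok_864 i (by omega) (by omega)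
  rcases Nat.lt_or_ge i 912 with h | h
  · exact allRange_spec net0_ok_888 i (by omega) (by omega)
  rcases Nat.lt_or_ge i 936 with h | h
  · exact allRange_spec net0_ok_912 i (by omega) (by omega)
  rcases Nat.lt_or_ge i 960 with h | h
  · exact allRange_spec net0_ok_936 i (by omega) (by omega)
  rcases Nat.lt_or_ge i 984 with h | h
  · exact allRange_spec net0_ok_960 i (by omega) (by omega)
  rcases Nat.lt_or_ge i 1008 with h | h
  · exact allRange_spec net0_ok_984 i (by omega) (by omega)
  rcases Nat.lt_or_ge i 1032 with h | h
  · exact allRange_spec net0_ok_1008 i (by omega) (by omega)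
  rcases Nat.lt_or_ge i 1056 with h | h
  · exact allRange_spec net0_ok_1032 i (by omega) (by omega)
  rcases Nat.lt_or_ge i 1080 with h | h
  · exact allRange_spec net0_ok_1056 i (by omega) (by omega)
  rcases Nat.lt_or_ge i 1104 with h | h
  · exact allRange_spec net0_ok_1080 i (by omega) (by omega)
  rcases Nat.lt_or_ge i 1128 with h | h
  · exact allRange_spec net0_ok_1104 i (by omega) (by omega)
  rcases Nat.lt_or_ge i 1152 with h | h
  · exact allRange_spec net0_ok_1128 i (by omega) (by omega)
  rcases Nat.lt_or_ge i 1176 with h | h
  · exact allRange_spec net0_ok_1152 i (by omega) (by omega)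
  rcases Nat.lt_or_ge i 1200 with h | h
  · exact allRange_spec net0_ok_1176 i (by omega) (by omega)
  rcases Nat.lt_or_ge i 1224 with h | h
  · exact allRange_spec net0_ok_1200 i (by omega) (by omega)
  rcases Nat.lt_or_ge i 1248 with h | h
  · exact allRange_spec net0_ok_1224 i (by omega) (by omega)
  rcases Nat.lt_or_ge i 1272 with h | h
  · exact allRange_spec net0_ok_1248 i (by omega) (by omega)
  rcases Nat.lt_or_ge i 1296 with h | h
  · exact allRange_spec net0_ok_1272 i (by omega) (by omega)
  rcases Nat.lt_or_ge i 1320 with h | h
  · exact allRange_spec net0_ok_1296 i (by omega) (by omega)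
  rcases Nat.lt_or_ge i 1344 with h | h
  · exact allRange_spec net0_ok_1320 i (by omega) (by omega)
  rcases Nat.lt_or_ge i 1368 with h | h
  · exact allRange_spec net0_ok_1344 i (by omega) (by omega)
  rcases Nat.lt_or_ge i 1392 with h | h
  · exact allRange_spec net0_ok_1368 i (by omega) (by omega)
  rcases Nat.lt_or_ge i 1416 with h | h
  · exact allRange_spec net0_ok_1392 i (by omega) (by omega)
  rcases Nat.lt_or_ge i 1440 with h | h
  · exact allRange_spec net0_ok_1416 i (by omega) (by omega)
  rcases Nat.lt_or_ge i 1464 with h | h
  · exact allRange_spec net0_ok_1440 i (by omega) (by omega)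
  rcases Nat.lt_or_ge i 1488 with h | h
  · exact allRange_spec net0_ok_1464 i (by omega) (by omega)
  rcases Nat.lt_or_ge i 1512 with h | h
  · exact allRange_spec net0_ok_1488 i (by omega) (by omega)
  rcases Nat.lt_or_ge i 1536 with h | h
  · exact allRange_spec net0_ok_1512 i (by omega) (by omega)
  rcases Nat.lt_or_ge i 1560 with h | h
  · exact allRange_spec net0_ok_1536 i (by omega) (by omega)
  rcases Nat.lt_or_ge i 1584 with h | h
  · exact allRange_spec net0_ok_1560 i (by omega) (by omega)
  rcases Nat.lt_or_ge i 1608 with h | h
  · exact allRange_spec net0_ok_1584 i (by omega) (by omega)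
  rcases Nat.lt_or_ge i 1632 with h | h
  · exact allRange_spec net0_ok_1608 i (by omega) (by omega)
  rcases Nat.lt_or_ge i 1656 with h | h
  · exact allRange_spec net0_ok_1632 i (by omega) (by omega)
  rcases Nat.lt_or_ge i 1680 with h | h
  · exact allRange_spec net0_ok_1656 i (by omega) (by omega)
  rcases Nat.lt_or_ge i 1704 with h | h
  · exact allRange_spec net0_ok_1680 i (by omega) (by omega)
  rcases Nat.lt_or_ge i 1728 with h | h
  · exact allRange_spec net0_ok_1704 i (by omega) (by omega)
  rcases Nat.lt_or_ge i 1752 with h | h
  · exact allRange_spec net0_ok_1728 i (by omega) (by omega)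
  rcases Nat.lt_or_ge i 1776 with h | h
  · exact allRange_spec net0_ok_1752 i (by omega) (by omega)
  rcases Nat.lt_or_ge i 1800 with h | h
  · exact allRange_spec net0_ok_1776 i (by omega) (by omega)
  rcases Nat.lt_or_ge i 1824 with h | h
  · exact allRange_spec net0_ok_1800 i (by omega) (by omega)
  rcases Nat.lt_or_ge i 1848 with h | h
  · exact allRange_spec net0_ok_1824 i (by omega) (by omega)
  rcases Nat.lt_or_ge i 1872 with h | h
  · exact allRange_spec net0_ok_1848 i (by omega) (by omega)
  rcases Nat.lt_or_ge i 1896 with h | h
  · exact allRange_spec net0_ok_1872 i (by omega) (by omega)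
  rcases Nat.lt_or_ge i 1920 with h | h
  · exact allRange_spec net0_ok_1896 i (by omega) (by omega)
  rcases Nat.lt_or_ge i 1944 with h | h
  · exact allRange_spec net0_ok_1920 i (by omega) (by omega)
  rcases Nat.lt_or_ge i 1968 with h | h
  · exact allRange_spec net0_ok_1944 i (by omega) (by omega)
  rcases Nat.lt_or_ge i 1992 with h | h
  · exact allRange_spec net0_ok_1968 i (by omega) (by omega)
  rcases Nat.lt_or_ge i 2016 with h | h
  · exact allRange_spec net0_ok_1992 i (by omega) (by omega)
  rcases Nat.lt_or_ge i 2040 with h | h
  · exact allRange_spec net0_ok_2016 i (by omega) (by omega)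
  rcases Nat.lt_or_ge i 2064 with h | h
  · exact allRange_spec net0_ok_2040 i (by omega) (by omega)
  rcases Nat.lt_or_ge i 2088 with h | h
  · exact allRange_spec net0_ok_2064 i (by omega) (by omega)
  rcases Nat.lt_or_ge i 2112 with h | h
  · exact allRange_spec net0_ok_2088 i (by omega) (by omega)
  rcases Nat.lt_or_ge i 2136 with h | h
  · exact allRange_spec net0_ok_2112 i (by omega) (by omega)
  rcases Nat.lt_or_ge i 2160 with h | h
  · exact allRange_spec net0_ok_2136 i (by omega) (by omega)
  rcases Nat.lt_or_ge i 2184 with h | h
  · exact allRange_spec net0_ok_2160 i (by omega) (by omega)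
  rcases Nat.lt_or_ge i 2208 with h | h
  · exact allRange_spec net0_ok_2184 i (by omega) (by omega)
  rcases Nat.lt_or_ge i 2232 with h | h
  · exact allRange_spec net0_ok_2208 i (by omega) (by omega)
  rcases Nat.lt_or_ge i 2256 with h | h
  · exact allRange_spec net0_ok_2232 i (by omega) (by omega)
  rcases Nat.lt_or_ge i 2280 with h | h
  · exact allRange_spec net0_ok_2256 i (by omega) (by omega)
  rcases Nat.lt_or_ge i 2304 with h | h
  · exact allRange_spec net0_ok_2280 i (by omega) (by omega)
  rcases Nat.lt_or_ge i 2328 with h | h
  · exact allRange_spec net0_ok_2304 i (by omega) (by omega)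
  rcases Nat.lt_or_ge i 2352 with h | h
  · exact allRange_spec net0_ok_2328 i (by omega) (by omega)
  rcases Nat.lt_or_ge i 2376 with h | h
  · exact allRange_spec net0_ok_2352 i (by omega) (by omega)
  rcases Nat.lt_or_ge i 2400 with h | h
  · exact allRange_spec net0_ok_2376 i (by omega) (by omega)
  rcases Nat.lt_or_ge i 2424 with h | h
  · exact allRange_spec net0_ok_2400 i (by omega) (by omega)
  rcases Nat.lt_or_ge i 2448 with h | h
  · exact allRange_spec net0_ok_2424 i (by omega) (by omega)
  rcases Nat.lt_or_ge i 2472 with h | h
  · exact allRange_spec net0_ok_2448 i (by omega) (by omega)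
  rcases Nat.lt_or_ge i 2496 with h | h
  · exact allRange_spec net0_ok_2472 i (by omega) (by omega)
  rcases Nat.lt_or_ge i 2520 with h | h
  · exact allRange_spec net0_ok_2496 i (by omega) (by omega)
  rcases Nat.lt_or_ge i 2544 with h | h
  · exact allRange_spec net0_ok_2520 i (by omega) (by omega)
  rcases Nat.lt_or_ge i 2568 with h | h
  · exact allRange_spec net0_ok_2544 i (by omega) (by omega)
  rcases Nat.lt_or_ge i 2592 with h | h
  · exact allRange_spec net0_ok_2568 i (by omega) (by omega)
  rcases Nat.lt_or_ge i 2616 with h | h
  · exact allRange_spec net0_ok_2592 i (by omega) (by omega)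
  rcases Nat.lt_or_ge i 2640 with h | h
  · exact allRange_spec net0_ok_2616 i (by omega) (by omega)
  rcases Nat.lt_or_ge i 2664 with h | h
  · exact allRange_spec net0_ok_2640 i (by omega) (by omega)
  rcases Nat.lt_or_ge i 2688 with h | h
  · exact allRange_spec net0_ok_2664 i (by omega) (by omega)
  rcases Nat.lt_or_ge i 2712 with h | h
  · exact allRange_spec net0_ok_2688 i (by omega) (by omega)
  rcases Nat.lt_or_ge i 2736 with h | h
  · exact allRange_spec net0_ok_2712 i (by omega) (by omega)
  rcases Nat.lt_or_ge i 2760 with h | h
  · exact allRange_spec net0_ok_2736 i (by omega) (by omega)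
  rcases Nat.lt_or_ge i 2784 with h | h
  · exact allRange_spec net0_ok_2760 i (by omega) (by omega)
  rcases Nat.lt_or_ge i 2808 with h | h
  · exact allRange_spec net0_ok_2784 i (by omega) (by omega)
  rcases Nat.lt_or_ge i 2832 with h | h
  · exact allRange_spec net0_ok_2808 i (by omega) (by omega)
  rcases Nat.lt_or_ge i 2856 with h | h
  · exact allRange_spec net0_ok_2832 i (by omega) (by omega)
  rcases Nat.lt_or_ge i 2880 with h | h
  · exact allRange_spec net0_ok_2856 i (by omega) (by omega)
  rcases Nat.lt_or_ge i 2904 with h | h
  · exact allRange_spec net0_ok_2880 i (by omega) (by omega)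
  rcases Nat.lt_or_ge i 2928 with h | h
  · exact allRange_spec net0_ok_2904 i (by omega) (by omega)
  rcases Nat.lt_or_ge i 2952 with h | h
  · exact allRange_spec net0_ok_2928 i (by omega) (by omega)
  rcases Nat.lt_or_ge i 2976 with h | h
  · exact allRange_spec net0_ok_2952 i (by omega) (by omega)
  rcases Nat.lt_or_ge i 3000 with h | h
  · exact allRange_spec net0_ok_2976 i (by omega) (by omega)
  rcases Nat.lt_or_ge i 3024 with h | h
  · exact allRange_spec net0_ok_3000 i (by omega) (by omega)
  rcases Nat.lt_or_ge i 3048 with h | h
  · exact allRange_spec net0_ok_3024 i (by omega) (by omega)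
  rcases Nat.lt_or_ge i 3072 with h | h
  · exact allRange_spec net0_ok_3048 i (by omega) (by omega)
  rcases Nat.lt_or_ge i 3096 with h | h
  · exact allRange_spec net0_ok_3072 i (by omega) (by omega)
  rcases Nat.lt_or_ge i 3120 with h | h
  · exact allRange_spec net0_ok_3096 i (by omega) (by omega)
  rcases Nat.lt_or_ge i 3144 with h | h
  · exact allRange_spec net0_ok_3120 i (by omega) (by omega)
  rcases Nat.lt_or_ge i 3168 with h | h
  · exact allRange_spec net0_ok_3144 i (by omega) (by omega)
  rcases Nat.lt_or_ge i 3192 with h | h
  · exact allRange_spec net0_ok_3168 i (by omega) (by omega)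
  rcases Nat.lt_or_ge i 3216 with h | h
  · exact allRange_spec net0_ok_3192 i (by omega) (by omega)
  rcases Nat.lt_or_ge i 3240 with h | h
  · exact allRange_spec net0_ok_3216 i (by omega) (by omega)
  rcases Nat.lt_or_ge i 3264 with h | h
  · exact allRange_spec net0_ok_3240 i (by omega) (by omega)
  rcases Nat.lt_or_ge i 3288 with h | h
  · exact allRange_spec net0_ok_3264 i (by omega) (by omega)
  rcases Nat.lt_or_ge i 3312 with h | h
  · exact allRange_spec net0_ok_3288 i (by omega) (by omega)
  rcases Nat.lt_or_ge i 3336 with h | h
  · exact allRange_spec net0_ok_3312 i (by omega) (by omega)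
  rcases Nat.lt_or_ge i 3360 with h | h
  · exact allRange_spec net0_ok_3336 i (by omega) (by omega)
  rcases Nat.lt_or_ge i 3384 with h | h
  · exact allRange_spec net0_ok_3360 i (by omega) (by omega)
  rcases Nat.lt_or_ge i 3408 with h | h
  · exact allRange_spec net0_ok_3384 i (by omega) (by omega)
  rcases Nat.lt_or_ge i 3432 with h | h
  · exact allRange_spec net0_ok_3408 i (by omega) (by omega)
  rcases Nat.lt_or_ge i 3456 with h | h
  · exact allRange_spec net0_ok_3432 i (by omega) (by omega)
  rcases Nat.lt_or_ge i 3480 with h | h
  · exact allRange_spec net0_ok_3456 i (by omega) (by omega)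
  rcases Nat.lt_or_ge i 3504 with h | h
  · exact allRange_spec net0_ok_3480 i (by omega) (by omega)
  rcases Nat.lt_or_ge i 3528 with h | h
  · exact allRange_spec net0_ok_3504 i (by omega) (by omega)
  rcases Nat.lt_or_ge i 3552 with h | h
  · exact allRange_spec net0_ok_3528 i (by omega) (by omega)
  rcases Nat.lt_or_ge i 3576 with h | h
  · exact allRange_spec net0_ok_3552 i (by omega) (by omega)
  rcases Nat.lt_or_ge i 3600 with h | h
  · exact allRange_spec net0_ok_3576 i (by omega) (by omega)
  rcases Nat.lt_or_ge i 3624 with h | h
  · exact allRange_spec net0_ok_3600 i (by omega) (by omega)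
  rcases Nat.lt_or_ge i 3648 with h | h
  · exact allRange_spec net0_ok_3624 i (by omega) (by omega)
  rcases Nat.lt_or_ge i 3672 with h | h
  · exact allRange_spec net0_ok_3648 i (by omega) (by omega)
  rcases Nat.lt_or_ge i 3696 with h | h
  · exact allRange_spec net0_ok_3672 i (by omega) (by omega)
  rcases Nat.lt_or_ge i 3720 with h | h
  · exact allRange_spec net0_ok_3696 i (by omega) (by omega)
  rcases Nat.lt_or_ge i 3744 with h | h
  · exact allRange_spec net0_ok_3720 i (by omega) (by omega)
  rcases Nat.lt_or_ge i 3768 with h | h
  · exact allRange_spec net0_ok_3744 i (by omega) (by omega)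
  rcases Nat.lt_or_ge i 3792 with h | h
  · exact allRange_spec net0_ok_3768 i (by omega) (by omega)
  rcases Nat.lt_or_ge i 3816 with h | h
  · exact allRange_spec net0_ok_3792 i (by omega) (by omega)
  rcases Nat.lt_or_ge i 3840 with h | h
  · exact allRange_spec net0_ok_3816 i (by omega) (by omega)
  rcases Nat.lt_or_ge i 3864 with h | h
  · exact allRange_spec net0_ok_3840 i (by omega) (by omega)
  rcases Nat.lt_or_ge i 3888 with h | h
  · exact allRange_spec net0_ok_3864 i (by omega) (by omega)
  rcases Nat.lt_or_ge i 3912 with h | h
  · exact allRange_spec net0_ok_3888 i (by omega) (by omega)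
  rcases Nat.lt_or_ge i 3936 with h | h
  · exact allRange_spec net0_ok_3912 i (by omega) (by omega)
  rcases Nat.lt_or_ge i 3960 with h | h
  · exact allRange_spec net0_ok_3936 i (by omega) (by omega)
  rcases Nat.lt_or_ge i 3984 with h | h
  · exact allRange_spec net0_ok_3960 i (by omega) (by omega)
  rcases Nat.lt_or_ge i 4008 with h | h
  · exact allRange_spec net0_ok_3984 i (by omega) (by omega)
  rcases Nat.lt_or_ge i 4032 with h | h
  · exact allRange_spec net0_ok_4008 i (by omega) (by omega)
  rcases Nat.lt_or_ge i 4056 with h | h
  · exact allRange_spec net0_ok_4032 i (by omega) (by omega)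
  exact allRange_spec net0_ok_4056 i (by omega) (by omega)

theorem rows0_ok_0 : allRange (rowOK rows net0 0) 0 64 = true := by decide +kernel

theorem rows0_ok_64 : allRange (rowOK rows net0 0) 64 64 = true := by decide +kernel

theorem rows0_ok_128 : allRange (rowOK rows net0 0) 128 64 = true := by decide +kernel

theorem rows0_ok_192 : allRange (rowOK rows net0 0) 192 64 = true := by decide +kernel

theorem rows0_ok_256 : allRange (rowOK rows net0 0) 256 64 = true := by decide +kernel

theorem rows0_ok_320 : allRange (rowOK rows net0 0) 320 64 = true := by decide +kernel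

theorem rows0_ok_384 : allRange (rowOK rows net0 0) 384 64 = true := by decide +kernel

theorem rows0_ok_448 : allRange (rowOK rows net0 0) 448 64 = true := by decide +kernel

theorem rows0_ok_512 : allRange (rowOK rows net0 0) 512 64 = true := by decide +kernel

theorem rows0_ok_576 : allRange (rowOK rows net0 0) 576 64 = true := by decide +kernel

theorem rows0_ok_640 : allRange (rowOK rows net0 0) 640 64 = true := by decide +kernel

theorem rows0_ok_704 : allRange (rowOK rows net0 0) 704 64 = true := by decide +kernel

theorem rows0_ok_768 : allRange (rowOK rows net0 0) 768 64 = true := by decide +kernel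

theorem rows0_ok_832 : allRange (rowOK rows net0 0) 832 64 = true := by decide +kernel

theorem rows0_ok_896 : allRange (rowOK rows net0 0) 896 64 = true := by decide +kernel

theorem rows0_ok_960 : allRange (rowOK rows net0 0) 960 64 = true := by decide +kernel

theorem rows0_ok_1024 : allRange (rowOK rows net0 0) 1024 64 = true := by decide +kernel

theorem rows0_ok_1088 : allRange (rowOK rows net0 0) 1088 64 = true := by decide +kernel

theorem rows0_ok_1152 : allRange (rowOK rows net0 0) 1152 64 = true := by decide +kernel

theorem rows0_ok_1216 : allRange (rowOK rows net0 0) 1216 64 = true := by decide +kernel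

theorem rows0_ok_1280 : allRange (rowOK rows net0 0) 1280 64 = true := by decide +kernel

theorem rows0_ok_1344 : allRange (rowOK rows net0 0) 1344 64 = true := by decide +kernel

theorem rows0_ok_1408 : allRange (rowOK rows net0 0) 1408 64 = true := by decide +kernel

theorem rows0_ok_1472 : allRange (rowOK rows net0 0) 1472 64 = true := by decide +kernel

theorem rows0_ok_1536 : allRange (rowOK rows net0 0) 1536 64 = true := by decide +kernel

theorem rows0_ok_1600 : allRange (rowOK rows net0 0) 1600 64 = true := by decide +kernel

theorem rows0_ok_1664 : allRange (rowOK rows net0 0) 1664 64 = true := by decide +kernel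

theorem rows0_ok_1728 : allRange (rowOK rows net0 0) 1728 64 = true := by decide +kernel

theorem rows0_ok_1792 : allRange (rowOK rows net0 0) 1792 64 = true := by decide +kernel

theorem rows0_ok_1856 : allRange (rowOK rows net0 0) 1856 64 = true := by decide +kernel

theorem rows0_ok_1920 : allRange (rowOK rows net0 0) 1920 64 = true := by decide +kernel

theorem rows0_ok_1984 : allRange (rowOK rows net0 0) 1984 64 = true := by decide +kernel

theorem rows0_ok_2048 : allRange (rowOK rows net0 0) 2048 64 = true := by decide +kernel

theorem rows0_ok_2112 : allRange (rowOK rows net0 0) 2112 64 = true := by decide +kernel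

theorem rows0_ok_2176 : allRange (rowOK rows net0 0) 2176 64 = true := by decide +kernel

theorem rows0_ok_2240 : allRange (rowOK rows net0 0) 2240 64 = true := by decide +kernel

theorem rows0_ok_2304 : allRange (rowOK rows net0 0) 2304 64 = true := by decide +kernel

theorem rows0_ok_2368 : allRange (rowOK rows net0 0) 2368 64 = true := by decide +kernel

theorem rows0_ok_2432 : allRange (rowOK rows net0 0) 2432 64 = true := by decide +kernel

theorem rows0_ok_2496 : allRange (rowOK rows net0 0) 2496 64 = true := by decide +kernel

theorem rows0_ok_2560 : allRange (rowOK rows net0 0) 2560 64 = true := by decide +kernel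

theorem rows0_ok_2624 : allRange (rowOK rows net0 0) 2624 64 = true := by decide +kernel

theorem rows0_ok_2688 : allRange (rowOK rows net0 0) 2688 64 = true := by decide +kernel

theorem rows0_ok_2752 : allRange (rowOK rows net0 0) 2752 64 = true := by decide +kernel

theorem rows0_ok_2816 : allRange (rowOK rows net0 0) 2816 64 = true := by decide +kernel

theorem rows0_ok_2880 : allRange (rowOK rows net0 0) 2880 64 = true := by decide +kernel

theorem rows0_ok_2944 : allRange (rowOK rows net0 0) 2944 64 = true := by decide +kernel

theorem rows0_ok_3008 : allRange (rowOK rows net0 0) 3008 64 = true := by decide +kernel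

theorem rows0_ok_3072 : allRange (rowOK rows net0 0) 3072 64 = true := by decide +kernel

theorem rows0_ok_3136 : allRange (rowOK rows net0 0) 3136 64 = true := by decide +kernel

theorem rows0_ok_3200 : allRange (rowOK rows net0 0) 3200 64 = true := by decide +kernel

theorem rows0_ok_3264 : allRange (rowOK rows net0 0) 3264 64 = true := by decide +kernel

theorem rows0_ok_3328 : allRange (rowOK rows net0 0) 3328 64 = true := by decide +kernel

theorem rows0_ok_3392 : allRange (rowOK rows net0 0) 3392 64 = true := by decide +kernel

theorem rows0_ok_3456 : allRange (rowOK rows net0 0) 3456 64 = true := by decide +kernel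

theorem rows0_ok_3520 : allRange (rowOK rows net0 0) 3520 64 = true := by decide +kernel

theorem rows0_ok_3584 : allRange (rowOK rows net0 0) 3584 64 = true := by decide +kernel

theorem rows0_ok_3648 : allRange (rowOK rows net0 0) 3648 64 = true := by decide +kernel

theorem rows0_ok_3712 : allRange (rowOK rows net0 0) 3712 64 = true := by decide +kernel

theorem rows0_ok_3776 : allRange (rowOK rows net0 0) 3776 64 = true := by decide +kernel

theorem rows0_ok_3840 : allRange (rowOK rows net0 0) 3840 64 = true := by decide +kernel

theorem rows0_ok_3904 : allRange (rowOK rows net0 0) 3904 64 = true := by decide +kernel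

theorem rows0_ok_3968 : allRange (rowOK rows net0 0) 3968 64 = true := by decide +kernel

theorem rows0_ok_4032 : allRange (rowOK rows net0 0) 4032 28 = true := by decide +kernel

theorem rows0_ok : ∀ i, i < 4060 → (rowOK rows net0 0) i = true := by
  intro i hi
  rcases Nat.lt_or_ge i 64 with h | h
  · exact allRange_spec rows0_ok_0 i (by omega) (by omega)
  rcases Nat.lt_or_ge i 128 with h | h
  · exact allRange_spec rows0_ok_64 i (by omega) (by omega)
  rcases Nat.lt_or_ge i 192 with h | h
  · exact allRange_spec rows0_ok_128 i (by omega) (by omega)
  rcases Nat.lt_or_ge i 256 with h | h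
  · exact allRange_spec rows0_ok_192 i (by omega) (by omega)
  rcases Nat.lt_or_ge i 320 with h | h
  · exact allRange_spec rows0_ok_256 i (by omega) (by omega)
  rcases Nat.lt_or_ge i 384 with h | h
  · exact allRange_spec rows0_ok_320 i (by omega) (by omega)
  rcases Nat.lt_or_ge i 448 with h | h
  · exact allRange_spec rows0_ok_384 i (by omega) (by omega)
  rcases Nat.lt_or_ge i 512 with h | h
  · exact allRange_spec rows0_ok_448 i (by omega) (by omega)
  rcases Nat.lt_or_ge i 576 with h | h
  · exact allRange_spec rows0_ok_512 i (by omega) (by omega)
  rcases Nat.lt_or_ge i 640 with h | h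
  · exact allRange_spec rows0_ok_576 i (by omega) (by omega)
  rcases Nat.lt_or_ge i 704 with h | h
  · exact allRange_spec rows0_ok_640 i (by omega) (by omega)
  rcases Nat.lt_or_ge i 768 with h | h
  · exact allRange_spec rows0_ok_704 i (by omega) (by omega)
  rcases Nat.lt_or_ge i 832 with h | h
  · exact allRange_spec rows0_ok_768 i (by omega) (by omega)
  rcases Nat.lt_or_ge i 896 with h | h
  · exact allRange_spec rows0_ok_832 i (by omega) (by omega)
  rcases Nat.lt_or_ge i 960 with h | h
  · exact allRange_spec rows0_ok_896 i (by omega) (by omega)
  rcases Nat.lt_or_ge i 1024 with h | h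
  · exact allRange_spec rows0_ok_960 i (by omega) (by omega)
  rcases Nat.lt_or_ge i 1088 with h | h
  · exact allRange_spec rows0_ok_1024 i (by omega) (by omega)
  rcases Nat.lt_or_ge i 1152 with h | h
  · exact allRange_spec rows0_ok_1088 i (by omega) (by omega)
  rcases Nat.lt_or_ge i 1216 with h | h
  · exact allRange_spec rows0_ok_1152 i (by omega) (by omega)
  rcases Nat.lt_or_ge i 1280 with h | h
  · exact allRange_spec rows0_ok_1216 i (by omega) (by omega)
  rcases Nat.lt_or_ge i 1344 with h | h
  · exact allRange_spec rows0_ok_1280 i (by omega) (by omega)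
  rcases Nat.lt_or_ge i 1408 with h | h
  · exact allRange_spec rows0_ok_1344 i (by omega) (by omega)
  rcases Nat.lt_or_ge i 1472 with h | h
  · exact allRange_spec rows0_ok_1408 i (by omega) (by omega)
  rcases Nat.lt_or_ge i 1536 with h | h
  · exact allRange_spec rows0_ok_1472 i (by omega) (by omega)
  rcases Nat.lt_or_ge i 1600 with h | h
  · exact allRange_spec rows0_ok_1536 i (by omega) (by omega)
  rcases Nat.lt_or_ge i 1664 with h | h
  · exact allRange_spec rows0_ok_1600 i (by omega) (by omega)
  rcases Nat.lt_or_ge i 1728 with h | h
  · exact allRange_spec rows0_ok_1664 i (by omega) (by omega)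
  rcases Nat.lt_or_ge i 1792 with h | h
  · exact allRange_spec rows0_ok_1728 i (by omega) (by omega)
  rcases Nat.lt_or_ge i 1856 with h | h
  · exact allRange_spec rows0_ok_1792 i (by omega) (by omega)
  rcases Nat.lt_or_ge i 1920 with h | h
  · exact allRange_spec rows0_ok_1856 i (by omega) (by omega)
  rcases Nat.lt_or_ge i 1984 with h | h
  · exact allRange_spec rows0_ok_1920 i (by omega) (by omega)
  rcases Nat.lt_or_ge i 2048 with h | h
  · exact allRange_spec rows0_ok_1984 i (by omega) (by omega)
  rcases Nat.lt_or_ge i 2112 with h | h
  · exact allRange_spec rows0_ok_2048 i (by omega) (by omega)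
  rcases Nat.lt_or_ge i 2176 with h | h
  · exact allRange_spec rows0_ok_2112 i (by omega) (by omega)
  rcases Nat.lt_or_ge i 2240 with h | h
  · exact allRange_spec rows0_ok_2176 i (by omega) (by omega)
  rcases Nat.lt_or_ge i 2304 with h | h
  · exact allRange_spec rows0_ok_2240 i (by omega) (by omega)
  rcases Nat.lt_or_ge i 2368 with h | h
  · exact allRange_spec rows0_ok_2304 i (by omega) (by omega)
  rcases Nat.lt_or_ge i 2432 with h | h
  · exact allRange_spec rows0_ok_2368 i (by omega) (by omega)
  rcases Nat.lt_or_ge i 2496 with h | h
  · exact allRange_spec rows0_ok_2432 i (by omega) (by omega)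
  rcases Nat.lt_or_ge i 2560 with h | h
  · exact allRange_spec rows0_ok_2496 i (by omega) (by omega)
  rcases Nat.lt_or_ge i 2624 with h | h
  · exact allRange_spec rows0_ok_2560 i (by omega) (by omega)
  rcases Nat.lt_or_ge i 2688 with h | h
  · exact allRange_spec rows0_ok_2624 i (by omega) (by omega)
  rcases Nat.lt_or_ge i 2752 with h | h
  · exact allRange_spec rows0_ok_2688 i (by omega) (by omega)
  rcases Nat.lt_or_ge i 2816 with h | h
  · exact allRange_spec rows0_ok_2752 i (by omega) (by omega)
  rcases Nat.lt_or_ge i 2880 with h | h
  · exact allRange_spec rows0_ok_2816 i (by omega) (by omega)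
  rcases Nat.lt_or_ge i 2944 with h | h
  · exact allRange_spec rows0_ok_2880 i (by omega) (by omega)
  rcases Nat.lt_or_ge i 3008 with h | h
  · exact allRange_spec rows0_ok_2944 i (by omega) (by omega)
  rcases Nat.lt_or_ge i 3072 with h | h
  · exact allRange_spec rows0_ok_3008 i (by omega) (by omega)
  rcases Nat.lt_or_ge i 3136 with h | h
  · exact allRange_spec rows0_ok_3072 i (by omega) (by omega)
  rcases Nat.lt_or_ge i 3200 with h | h
  · exact allRange_spec rows0_ok_3136 i (by omega) (by omega)
  rcases Nat.lt_or_ge i 3264 with h | h
  · exact allRange_spec rows0_ok_3200 i (by omega) (by omega)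
  rcases Nat.lt_or_ge i 3328 with h | h
  · exact allRange_spec rows0_ok_3264 i (by omega) (by omega)
  rcases Nat.lt_or_ge i 3392 with h | h
  · exact allRange_spec rows0_ok_3328 i (by omega) (by omega)
  rcases Nat.lt_or_ge i 3456 with h | h
  · exact allRange_spec rows0_ok_3392 i (by omega) (by omega)
  rcases Nat.lt_or_ge i 3520 with h | h
  · exact allRange_spec rows0_ok_3456 i (by omega) (by omega)
  rcases Nat.lt_or_ge i 3584 with h | h
  · exact allRange_spec rows0_ok_3520 i (by omega) (by omega)
  rcases Nat.lt_or_ge i 3648 with h | h
  · exact allRange_spec rows0_ok_3584 i (by omega) (by omega)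
  rcases Nat.lt_or_ge i 3712 with h | h
  · exact allRange_spec rows0_ok_3648 i (by omega) (by omega)
  rcases Nat.lt_or_ge i 3776 with h | h
  · exact allRange_spec rows0_ok_3712 i (by omega) (by omega)
  rcases Nat.lt_or_ge i 3840 with h | h
  · exact allRange_spec rows0_ok_3776 i (by omega) (by omega)
  rcases Nat.lt_or_ge i 3904 with h | h
  · exact allRange_spec rows0_ok_3840 i (by omega) (by omega)
  rcases Nat.lt_or_ge i 3968 with h | h
  · exact allRange_spec rows0_ok_3904 i (by omega) (by omega)
  rcases Nat.lt_or_ge i 4032 with h | h
  · exact allRange_spec rows0_ok_3968 i (by omega) (by omega)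
  exact allRange_spec rows0_ok_4032 i (by omega) (by omega)

end Cfsg.Agent.SporB.Ru
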