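import Cfsg.Agent.SporB.Ru.Basic

/-!
The letters are permutations and the derived letters are words.
-/

set_option autoImplicit false
set_option maxRecDepth 100000

namespace Cfsg.Agent.SporB.Ru

open Cfsg.Agent.CosetEnum

theorem lettersOK : LettersOK := by
  unfold LettersOK
  decide +kernel

/-- A derived letter. -/
theorem def4 : inS [0, 2] [1, 1, 1, 2, 2, 0, 3, 0, 3, 0, 0, 2, 0, 0, 0] = true ∧ sameAs [1, 1, 1, 2, 2, 0, 3, 0, 3, 0, 0, 2, 0, 0, 0] 4 = true := by decide +kernel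

/-- A derived letter. -/
theorem def6 : inS [0, 2] [0, 2, 1, 3, 0, 3, 3, 1, 1, 2, 2, 1, 3, 3, 1, 1] = true ∧ sameAs [0, 2, 1, 3, 0, 3, 3, 1, 1, 2, 2, 1, 3, 3, 1, 1] 6 = true := by decide +kernel

/-- A derived letter. -/
theorem def8 : inS [4, 6] [4, 4, 4, 4, 4, 6, 6, 5, 6, 4, 7, 7, 5, 7, 5] = true ∧ sameAs [4, 4, 4, 4, 4, 6, 6, 5, 6, 4, 7, 7, 5, 7, 5] 8 = true := by decide +kernel

/-- A derived letter. -/
theorem def10 : inS [4, 6] [6, 5, 5, 7, 5, 6, 6, 5, 5, 6, 5, 5, 7, 4] = true ∧ sameAs [6, 5, 5, 7, 5, 6, 6, 5, 5, 6, 5, 5, 7, 4] 10 = true := by decide +kernel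

/-- A derived letter. -/
theorem def12 : inS [8, 10] [8, 11, 9, 11, 8, 10, 10, 8, 10, 8, 11, 11, 9, 9, 11] = true ∧ sameAs [8, 11, 9, 11, 8, 10, 10, 8, 10, 8, 11, 11, 9, 9, 11] 12 = true := by decide +kernel

/-- A derived letter. -/
theorem def14 : inS [8, 10] [11, 9, 9, 11, 9, 10, 9, 10, 8, 11, 8, 10, 8, 8, 10] = true ∧ sameAs [11, 9, 9, 11, 9, 10, 9, 10, 8, 11, 8, 10, 8, 8, 10] 14 = true := by decide +kernel

/-- A derived letter. -/
theorem def16 : inS [4, 6] [5, 7, 4, 5, 5, 7, 6, 6, 7, 5, 6, 7, 4, 7] = true ∧ sameAs [5, 7, 4, 5, 5, 7, 6, 6, 7, 5, 6, 7, 4, 7] 16 = true := by decide +kernel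

/-- A derived letter. -/
theorem def18 : inS [4, 6] [6, 6, 6, 6, 5, 6, 4, 6, 6, 7, 7, 5, 6, 6, 4, 6] = true ∧ sameAs [6, 6, 6, 6, 5, 6, 4, 6, 6, 7, 7, 5, 6, 6, 4, 6] 18 = true := by decide +kernel

/-- A derived letter. -/
theorem def20 : inS [16, 18] [19, 19, 16, 18, 17, 19, 17, 18, 18, 16, 16] = true ∧ sameAs [19, 19, 16, 18, 17, 19, 17, 18, 18, 16, 16] 20 = true := by decide +kernel

/-- A derived letter. -/
theorem def22 : inS [16, 18] [19, 19, 19, 16, 18, 16, 16, 16, 16, 18, 17, 19, 17, 18] = true ∧ sameAs [19, 19, 19, 16, 18, 16, 16, 16, 16, 18, 17, 19, 17, 18] 22 = true := by decide +kernel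

/-- A derived letter. -/
theorem def24 : inS [20, 22] [23, 23, 20, 22, 20, 20, 22, 20, 22, 21] = true ∧ sameAs [23, 23, 20, 22, 20, 20, 22, 20, 22, 21] 24 = true := by decide +kernel

/-- A derived letter. -/
theorem def26 : inS [20, 22] [21, 22, 22, 22, 20, 23, 20, 20, 23, 21, 23, 23] = true ∧ sameAs [21, 22, 22, 22, 20, 23, 20, 20, 23, 21, 23, 23] 26 = true := by decide +kernel

/-- A derived letter. -/
theorem def28 : inS [20, 22] [20, 22, 22, 21, 22, 21, 21, 23, 23, 20, 23, 20, 20, 23, 23, 21, 21] = true ∧ sameAs [20, 22, 22, 21, 22, 21, 21, 23, 23, 20, 23, 20, 20, 23, 23, 21, 21] 28 = true := by decide +kernel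

end Cfsg.Agent.SporB.Ru
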