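import Cfsg.Agent.SporB.Ru.Basic

/-!
Orders of the generators.
-/

set_option autoImplicit false
set_option maxRecDepth 100000

namespace Cfsg.Agent.SporB.Ru

open Cfsg.Agent.CosetEnum

/-- A word acting trivially. -/
noncomputable def idWord (W : List ℕ) : Bool := allRange (fun i => Nat.beq (go W i) i) 0 4060

theorem ord0 : idWord (repWord [0] 29) = true := by decide +kernel

theorem ord2 : idWord (repWord [2] 29) = true := by decide +kernel

theorem ord16 : idWord (repWord [16] 13) = true := by decide +kernel

theorem ord18 : idWord (repWord [18] 13) = true := by decide +kernel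

theorem fix0 : ([4, 6, 8, 10, 12, 14, 16, 18] : List ℕ).all (fun l => Nat.beq (act 0 l) 0) = true := by
  decide +kernel

theorem pow_eq_one (hok : LettersOK) {l q : ℕ} (hl : l < nl) (h : idWord (repWord [l] q) = true) :
    val hok l ^ q = 1 := by
  have hlt : ∀ x ∈ repWord [l] q, x < nl := by
    clear h
    induction q with
    | zero => simp [repWord]
    | succ q ih =>
      intro x hx
      rcases List.mem_append.mp hx with hx | hx
      · rw [List.mem_singleton.mp hx]; exact hl
      · exact ih x hx
  rw [show val hok l = evalWord (val hok) [l] from (mul_one _).symm, ← evalWord_repWord,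
    ← inv_eq_one]
  ext i
  rw [go_eval hok _ hlt]
  exact Nat.eq_of_beq_eq_true (allRange_spec h i (Nat.zero_le _) (by omega))

end Cfsg.Agent.SporB.Ru
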