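import Cfsg.Agent.SporB.Ru.Data.G0
import Cfsg.Agent.SporB.Ru.Data.T0

/-!
The first orbit is everything, and the base lies in `{0}` and the orbit of the second base point.
-/

set_option autoImplicit false
set_option maxRecDepth 100000

namespace Cfsg.Agent.SporB.Ru

open Cfsg.Agent.CosetEnum

theorem g0_pts : allRange (fun i => Nat.beq (g0.pt i) i) 0 4060 = true := by decide +kernel

theorem base_cases_check :
    base.all (fun x => Nat.beq x 0 || (List.range 1755).any fun k => Nat.beq (t0.pt k) x) = true := by
  decide +kernel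

theorem base_cases : ∀ x ∈ base, x = 0 ∨ ∃ k, k < 1755 ∧ t0.pt k = x := by
  intro x hx
  have h := List.all_eq_true.mp base_cases_check x hx
  simp only [Bool.or_eq_true, List.any_eq_true, List.mem_range] at h
  rcases h with h | ⟨k, hk, h⟩
  · exact Or.inl (Nat.eq_of_beq_eq_true h)
  · exact Or.inr ⟨k, hk, Nat.eq_of_beq_eq_true h⟩

end Cfsg.Agent.SporB.Ru
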