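import Cfsg.Agent.SporB.Ru.Graph
import Cfsg.Agent.SporB.Ru.Data.Adj

/-!
Signatures are different.
-/

set_option autoImplicit false
set_option maxRecDepth 100000

namespace Cfsg.Agent.SporB.Ru

open Cfsg.Agent.CosetEnum

theorem sig_ok_0 : allRange (sigOK rows srt rk) 0 1024 = true := by decide +kernel

theorem sig_ok_1024 : allRange (sigOK rows srt rk) 1024 1024 = true := by decide +kernel

theorem sig_ok_2048 : allRange (sigOK rows srt rk) 2048 1024 = true := by decide +kernel

theorem sig_ok_3072 : allRange (sigOK rows srt rk) 3072 988 = true := by decide +kernel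

theorem sig_ok : ∀ i, i < 4060 → (sigOK rows srt rk) i = true := by
  intro i hi
  rcases Nat.lt_or_ge i 1024 with h | h
  · exact allRange_spec sig_ok_0 i (by omega) (by omega)
  rcases Nat.lt_or_ge i 2048 with h | h
  · exact allRange_spec sig_ok_1024 i (by omega) (by omega)
  rcases Nat.lt_or_ge i 3072 with h | h
  · exact allRange_spec sig_ok_2048 i (by omega) (by omega)
  exact allRange_spec sig_ok_3072 i (by omega) (by omega)

theorem base_ok : base.all (fun b => Nat.blt b 4060) = true := by decide +kernel

end Cfsg.Agent.SporB.Ru
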