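import Cfsg.Agent.SporB.Ru.Data.T0Cls
import Cfsg.Agent.SporB.Ru.Data.T0

/-!
Checks of suborbit labels.
-/

set_option autoImplicit false
set_option maxRecDepth 100000

namespace Cfsg.Agent.SporB.Ru

open Cfsg.Agent.CosetEnum

theorem t0_cls_0 : allRange (t0Cls.check t0) 0 1024 = true := by decide +kernel

theorem t0_cls_1024 : allRange (t0Cls.check t0) 1024 731 = true := by decide +kernel

theorem t0_cls : ∀ i, i < 1755 → (t0Cls.check t0) i = true := by
  intro i hi
  rcases Nat.lt_or_ge i 1024 with h | h
  · exact allRange_spec t0_cls_0 i (by omega) (by omega)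
  exact allRange_spec t0_cls_1024 i (by omega) (by omega)

theorem t0_sizes : ∀ c, c < 5 → t0Cls.checkSize t0 c = true := by decide +kernel

theorem t0_noBlock : t0Cls.noBlock 1755 0 := by
  unfold Classes.noBlock
  decide +kernel

theorem t0_lab0 : t0Cls.lab 487 = 0 := by decide +kernel

end Cfsg.Agent.SporB.Ru
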