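import Cfsg.Agent.SporB.Ru.Data.T0

/-!
Checks of one level.
-/

set_option autoImplicit false
set_option maxRecDepth 100000

namespace Cfsg.Agent.SporB.Ru

open Cfsg.Agent.CosetEnum

theorem t0_orb_0 : allRange (t0.checkOrbit) 0 512 = true := by decide +kernel

theorem t0_orb_512 : allRange (t0.checkOrbit) 512 512 = true := by decide +kernel

theorem t0_orb_1024 : allRange (t0.checkOrbit) 1024 512 = true := by decide +kernel

theorem t0_orb_1536 : allRange (t0.checkOrbit) 1536 219 = true := by decide +kernel

theorem t0_orb : ∀ i, i < 1755 → (t0.checkOrbit) i = true := by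
  intro i hi
  rcases Nat.lt_or_ge i 512 with h | h
  · exact allRange_spec t0_orb_0 i (by omega) (by omega)
  rcases Nat.lt_or_ge i 1024 with h | h
  · exact allRange_spec t0_orb_512 i (by omega) (by omega)
  rcases Nat.lt_or_ge i 1536 with h | h
  · exact allRange_spec t0_orb_1024 i (by omega) (by omega)
  exact allRange_spec t0_orb_1536 i (by omega) (by omega)

theorem t0_head : t0.checkHead 487 = true := by decide +kernel

end Cfsg.Agent.SporB.Ru
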