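import Cfsg.Agent.SporB.Ru.Data.T2

/-!
Checks of one level.
-/

set_option autoImplicit false
set_option maxRecDepth 100000

namespace Cfsg.Agent.SporB.Ru

open Cfsg.Agent.CosetEnum

theorem t2_orb_0 : allRange (t2.checkOrbit) 0 16 = true := by decide +kernel

theorem t2_orb : ∀ i, i < 16 → (t2.checkOrbit) i = true := by
  intro i hi
  exact allRange_spec t2_orb_0 i (by omega) (by omega)

theorem t2_head : t2.checkHead 0 = true := by decide +kernel

end Cfsg.Agent.SporB.Ru
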