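import Cfsg.Agent.SporB.Ru.Data.G2

/-!
Closure checks of one level.
-/

set_option autoImplicit false
set_option maxRecDepth 100000

namespace Cfsg.Agent.SporB.Ru

open Cfsg.Agent.CosetEnum

theorem g2_tr_0 : allRange (g2.checkTrans) 0 192 = true := by decide +kernel

theorem g2_tr_192 : allRange (g2.checkTrans) 192 192 = true := by decide +kernel

theorem g2_tr_384 : allRange (g2.checkTrans) 384 192 = true := by decide +kernel

theorem g2_tr_576 : allRange (g2.checkTrans) 576 64 = true := by decide +kernel

end Cfsg.Agent.SporB.Ru
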