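import Cfsg.Agent.SporB.Ru.Data.T0

/-!
Closure checks of one level.
-/

set_option autoImplicit false
set_option maxRecDepth 100000

namespace Cfsg.Agent.SporB.Ru

open Cfsg.Agent.CosetEnum

theorem t0_tr_0 : allRange (t0.checkTrans) 0 192 = true := by decide +kernel

theorem t0_tr_192 : allRange (t0.checkTrans) 192 192 = true := by decide +kernel

theorem t0_tr_384 : allRange (t0.checkTrans) 384 192 = true := by decide +kernel

theorem t0_tr_576 : allRange (t0.checkTrans) 576 192 = true := by decide +kernel

theorem t0_tr_768 : allRange (t0.checkTrans) 768 192 = true := by decide +kernel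

end Cfsg.Agent.SporB.Ru
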