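import Cfsg.Agent.SporB.Ru.Data.T2

/-!
Closure checks of one level.
-/

set_option autoImplicit false
set_option maxRecDepth 100000

namespace Cfsg.Agent.SporB.Ru

open Cfsg.Agent.CosetEnum

theorem t2_tr_0 : allRange (t2.checkTrans) 0 16 = true := by decide +kernel

end Cfsg.Agent.SporB.Ru
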